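import Cfsg.Agent.H41.SDiag_m3
import Cfsg.Agent.S3483
import Cfsg.Agent.H378.OmD4
import Cfsg.Agent.H135.TD.AutTwo
import Cfsg.Agent.H72.CVU.Five_m3
import Cfsg.Agent.Cit.HexD4
import Cfsg.Agent.ChevalleyStructure.D4H1
import Cfsg.Agent.H129.CycRow
import Cfsg.Agent.S1071
import Cfsg.Agent.H224.F4R.CovF_m3
import Cfsg.Agent.H564.U.F4_m3
import Cfsg.Agent.H962.E7.CovE7
import Cfsg.Agent.H130.E7.NoThree_m3
import Cfsg.Agent.H564.TD.Own
import Cfsg.Agent.H977.E6A.Fin_m3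
import Cfsg.Agent.S3478
import Cfsg.Agent.FastGrp
import Cfsg.Agent.Prune
set_option linter.all false
prune_inst 0x7ff3fdfddfb8afffdfff7e7ff6d8edfc19d19fffa4ddf94b3fe0a3ef2b9f230009c52b8d0de010fe0ee242b410a87803fb7eefffe26fdc7ffffdfdf41ffbee5fe5f7b50851958c340fbc0ffe03f0778e7f3fffffffffdfffffffffffffffffbeffbfffffffff
open scoped Cfsg.Agent.FastGrp

-- part: H369/CV/Exc
section
/-!
# S3442: `G₂(q)` (`q ≥ 3`), `E₈(q)`, Suzuki, Ree and Tits groups (helper369)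

They are recognised by their element orders (S3483).
-/

set_option autoImplicit false

namespace Cfsg.Agent.H369.CV

open Cfsg Cfsg.Agent.H373.CV

universe u v

theorem nc_exc {M : Type v} [Group M] [Finite M]
    (hM : Cfsg.Lie.IsoChevG2 M ∨ Cfsg.Lie.IsoE8 M ∨ Cfsg.Lie.IsoSuzuki M ∨ Cfsg.Lie.IsoRee M ∨ Cfsg.Lie.Iso2F4 M ∨
      Cfsg.Lie.IsoTits M) : NC.{u, v} M :=
  NC.of_rec fun _ _ _ h => Cfsg.Agent.S3483.result hM h

theorem nc_g2 {M : Type v} [Group M] [Finite M] (h : Cfsg.Lie.IsoChevG2 M) : NC.{u, v} M := nc_exc (Or.inl h)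

theorem nc_e8 {M : Type v} [Group M] [Finite M] (h : Cfsg.Lie.IsoE8 M) : NC.{u, v} M := nc_exc (Or.inr (Or.inl h))

theorem nc_sz {M : Type v} [Group M] [Finite M] (h : Cfsg.Lie.IsoSuzuki M) : NC.{u, v} M :=
  nc_exc (Or.inr (Or.inr (Or.inl h)))

theorem nc_ree {M : Type v} [Group M] [Finite M] (h : Cfsg.Lie.IsoRee M) : NC.{u, v} M :=
  nc_exc (Or.inr (Or.inr (Or.inr (Or.inl h))))

theorem nc_twF4 {M : Type v} [Group M] [Finite M] (h : Cfsg.Lie.Iso2F4 M) : NC.{u, v} M :=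
  nc_exc (Or.inr (Or.inr (Or.inr (Or.inr (Or.inl h)))))

theorem nc_tits {M : Type v} [Group M] [Finite M] (h : Cfsg.Lie.IsoTits M) : NC.{u, v} M :=
  nc_exc (Or.inr (Or.inr (Or.inr (Or.inr (Or.inr h)))))

end Cfsg.Agent.H369.CV
end

-- part: H369/CV/D4Om
section
/-!
# The element orders of `³D₄(q)`, any characteristic (helper369, for S3442)

* `om_gen` : the order of an element of `³D₄(q)` divides `q ^ 4 - q ^ 2 + 1`, `(q ^ 3 - 1) (q + 1)` or
  `(q ^ 3 + 1) (q - 1)`, or its part prime to `p` divides `q ^ 3 - 1` or `q ^ 3 + 1`.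
-/

set_option autoImplicit false
set_option linter.unusedSectionVars false

namespace Cfsg.Agent.H369.CV.D4

open Cfsg Cfsg.Lie Cfsg.Lie.ChevalleyDatum
open Cfsg.Agent.H129.TriD4
open Cfsg.Agent.H135.TD Cfsg.Agent.H378 Cfsg.Agent.H378.OmD4

universe u

/-- the possible element orders of `³D₄(q)` -/
def Og (p q n : ℕ) : Prop :=
  (n ∣ mm q ∨ n ∣ (q ^ 3 - 1) * (q + 1) ∨ n ∣ (q ^ 3 + 1) * (q - 1)) ∨
    ∃ j m, n = p ^ j * m ∧ m.Coprime p ∧ (m ∣ q ^ 3 - 1 ∨ m ∣ q ^ 3 + 1)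

/-- **The spectrum of `³D₄(q)`.** -/
theorem om_gen {K : Type u} [Field K] [Fintype K] {p q e : ℕ} (hpr : p.Prime) (he : 1 ≤ e) (hqe : q = p ^ e)
    (hq : 2 < q) (hK : Fintype.card K = q ^ 3) [CharP K p] (g : ↥(twistedD4 K q)) : Og p q (orderOf g) := by
  obtain ⟨k, _, _, f, p', _, hC, _, hk, hka, -, -⟩ := TorFin.exists_closure K
  have hpp : p' = p := by
    have h1 : CharP k p := charP_of_injective_ringHom f.injective p
    exact CharP.eq k hC h1
  subst hpp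
  have hp : p'.Prime := hpr
  have hqp : IsPrimePow q := by rw [hqe]; exact hp.isPrimePow.pow (by omega)
  set a := embT (k := k) f hqp hK g with ha
  have hσa : tau k p' e a = a := tau_embT f hqe hqp hK g
  have hoa : orderOf a = orderOf g := orderOf_injective _ (embT_injective f hqp hK) g
  have hn0 : orderOf g ≠ 0 := ((orderOf_pos g).ne' :)
  obtain ⟨j, m, hpm, hn⟩ := Nat.exists_eq_pow_mul_and_not_dvd hn0 p' hp.ne_one
  have hm0 : m ≠ 0 := by
    rintro rfl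
    rw [mul_zero] at hn
    exact hn0 hn
  have hpj : 0 < p' ^ j := pow_pos hp.pos j
  have hos : orderOf (a ^ p' ^ j) = m := by
    rw [orderOf_pow' _ hpj.ne', hoa, hn, Nat.gcd_mul_right_left, Nat.mul_div_cancel_left _ hpj]
  have hou : orderOf (a ^ m) = p' ^ j := by
    rw [orderOf_pow' _ hm0, hoa, hn, Nat.gcd_mul_left_left, Nat.mul_div_cancel _ (Nat.pos_of_ne_zero hm0)]
  have hmp : m.Coprime p' := ((Nat.Prime.coprime_iff_not_dvd hp).2 hpm).symm
  have key := main (k := k) (p := p') (e := e) hk hka (s := a ^ p' ^ j) (u := a ^ m) (by rw [map_pow, hσa])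
    (by rw [← pow_add, ← pow_add, add_comm]) hm0 hmp
    (by rw [← pow_mul, ← hn, ← hoa, pow_orderOf_eq_one]) (j := j)
    (by rw [← pow_mul, mul_comm, ← hn, ← hoa, pow_orderOf_eq_one])
  rw [← hqe] at key
  obtain ⟨c, hc⟩ : ∃ c, q = c + 3 := ⟨q - 3, by omega⟩
  have e1 : q ^ 4 + q ^ 3 = (q + 1) + (q ^ 3 - 1) * (q + 1) := by
    obtain ⟨d, hd⟩ : ∃ d, q ^ 3 = d + 1 := ⟨q ^ 3 - 1, by have := Nat.one_le_pow 3 q (by omega); omega⟩
    rw [show q ^ 4 = q ^ 3 * q by ring, hd, Nat.add_sub_cancel]; ring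
  have e2 : q ^ 4 + q = (q ^ 3 + 1) + (q ^ 3 + 1) * (q - 1) := by
    rw [hc, show c + 3 - 1 = c + 2 by omega]; ring
  have e3 : q ^ 4 + 1 = q ^ 2 + mm q := by
    unfold mm
    have : q ^ 2 ≤ q ^ 4 := Nat.pow_le_pow_right (by omega) (by norm_num)
    omega
  have e4 : q ^ 2 + 1 = q + (q ^ 2 - q + 1) := by
    have : q ≤ q ^ 2 := by nlinarith only []
    omega
  have e5 : q ^ 3 = 1 + (q ^ 3 - 1) := by
    have := Nat.one_le_pow 3 q (by omega)
    (clear * - this; omega)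
  have e6 : q ^ 3 - 1 = (q ^ 2 + q + 1) * (q - 1) := by
    rw [hc, show c + 3 - 1 = c + 2 by (clear * -; omega)]
    apply Nat.sub_eq_of_eq_add
    ring
  have e7 : q ^ 3 + 1 = (q ^ 2 - q + 1) * (q + 1) := by
    have e8 : q ^ 2 - q = q * (q - 1) := by rw [Nat.mul_sub, mul_one, pow_two]
    rw [e8, hc, show c + 3 - 1 = c + 2 by (clear * -; omega)]
    ring
  rcases key with ⟨hu, hs⟩ | ⟨hs, -⟩ | ⟨-, hs⟩ | ⟨-, hs⟩
  · -- semisimple elements
    left
    rw [hu, orderOf_one] at hou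
    rw [hn, ← hou, one_mul, ← hos]
    rcases hs with hs | hs | hs
    · exact Or.inr (Or.inl (dvd_of_pow_eq hs e1))
    · exact Or.inr (Or.inr (dvd_of_pow_eq hs e2))
    · exact Or.inl (dvd_of_pow_eq hs e3)
  · -- unipotent elements
    right
    rw [hs, orderOf_one] at hos
    exact ⟨j, m, hn, hmp, Or.inl (hos ▸ one_dvd _)⟩
  · right
    refine ⟨j, m, hn, hmp, ?_⟩
    rcases hs with hs | hs
    · exact Or.inl (hos ▸ dvd_of_pow_eq (B := 1) (by rw [pow_one]; exact hs) e5)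
    · exact Or.inr (hos ▸ orderOf_dvd_of_pow_eq_one hs)
  · right
    refine ⟨j, m, hn, hmp, ?_⟩
    rcases hs with hs | hs
    · have h2 : m ∣ q ^ 2 + q + 1 := hos ▸ orderOf_dvd_of_pow_eq_one hs
      exact Or.inl (h2.trans (e6 ▸ dvd_mul_right _ _))
    · have h2 : m ∣ q ^ 2 - q + 1 := hos ▸ dvd_of_pow_eq hs e4
      exact Or.inr (h2.trans (e7 ▸ dvd_mul_right _ _))

section num

variable {p q n : ℕ}

theorem not_dvd_of_cop {q : ℕ} (hq : 1 ≤ q) {p : ℕ} (hp : p.Prime) (hpq : p ∣ q) :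
    ¬ p ∣ mm q ∧ ¬ p ∣ (q ^ 3 - 1) * (q + 1) ∧ ¬ p ∣ (q ^ 3 + 1) * (q - 1) := by
  have h1 : ∀ i, 0 < i → p ∣ q ^ i := fun i hi => hpq.trans (dvd_pow_self q hi.ne')
  have n1 : ¬ p ∣ q + 1 := fun h => hp.one_lt.ne' (Nat.dvd_one.1 ((Nat.dvd_add_right hpq).1 h))
  have n2 : ¬ p ∣ q - 1 := fun h => by
    have h2 : p ∣ q - (q - 1) := Nat.dvd_sub hpq h
    rw [Nat.sub_sub_self hq] at h2
    exact hp.one_lt.ne' (Nat.dvd_one.1 h2)
  have n3 : ¬ p ∣ q ^ 3 + 1 := fun h => hp.one_lt.ne' (Nat.dvd_one.1 ((Nat.dvd_add_right (h1 3 (by norm_num))).1 h))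
  have n4 : ¬ p ∣ q ^ 3 - 1 := fun h => by
    have h2 : p ∣ q ^ 3 - (q ^ 3 - 1) := Nat.dvd_sub (h1 3 (by norm_num)) h
    rw [Nat.sub_sub_self (Nat.one_le_pow _ _ hq)] at h2
    exact hp.one_lt.ne' (Nat.dvd_one.1 h2)
  refine ⟨fun h => (prime_mm hq hp h).2.1 hpq, fun h => ?_, fun h => ?_⟩
  · rcases hp.dvd_mul.1 h with h | h
    · exact n4 h
    · exact n1 h
  · rcases hp.dvd_mul.1 h with h | h
    · exact n3 h
    · exact n2 h

/-- a multiple of a prime divisor of `q ^ 4 - q ^ 2 + 1` -/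
theorem Og.of_mm (hq : 1 ≤ q) (hp : p.Prime) (hpq : p ∣ q) {r : ℕ} (hr : r.Prime) (hrm : r ∣ mm q) (h : Og p q n)
    (hn : r ∣ n) : n ∣ mm q := by
  obtain ⟨-, h2, h3, h4⟩ := prime_mm hq hr hrm
  have n1 : ¬ r ∣ q + 1 := fun h => h4 (h.trans (by rw [cube_add hq]; exact Dvd.intro_left _ rfl))
  have n2 : ¬ r ∣ q - 1 := fun h => h3 (h.trans (by rw [cube_sub hq]; exact Dvd.intro_left _ rfl))
  rcases h with (h | h | h) | ⟨j, m, h, hm, h'⟩
  · exact h
  · exfalso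
    rcases hr.dvd_mul.1 (hn.trans h) with h | h
    · exact h3 h
    · exact n1 h
  · exfalso
    rcases hr.dvd_mul.1 (hn.trans h) with h | h
    · exact h4 h
    · exact n2 h
  · exfalso
    have hrp : r ≠ p := by
      rintro rfl
      exact h2 hpq
    rw [h] at hn
    have h5 : r ∣ m := by
      rcases hr.dvd_mul.1 hn with h6 | h6
      · exact absurd ((Nat.prime_dvd_prime_iff_eq hr hp).1 (hr.dvd_of_dvd_pow h6)) hrp
      · exact h6
    rcases h' with h' | h'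
    · exact h3 (h5.trans h')
    · exact h4 (h5.trans h')

/-- no element of order `r (q + 1) (q ^ 3 - 1)`, `r ≠ p` -/
theorem Og.not_max (hq : 2 < q) (hp : p.Prime) (hpq : p ∣ q) {r : ℕ} (hr : r.Prime) (hrp : r ≠ p) :
    ¬ Og p q (r * ((q + 1) * (q ^ 3 - 1))) := by
  intro h
  obtain ⟨a, rfl⟩ : ∃ a, q = a + 3 := ⟨q - 3, by omega⟩
  have e1 : (a + 3) ^ 3 - 1 = a ^ 3 + 9 * a ^ 2 + 27 * a + 26 := by
    have : (a + 3) ^ 3 = a ^ 3 + 9 * a ^ 2 + 27 * a + 26 + 1 := by ring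
    omega
  have e3 : a + 3 - 1 = a + 2 := by omega
  have hr2 := hr.two_le
  have hmm : mm (a + 3) = a ^ 4 + 12 * a ^ 3 + 53 * a ^ 2 + 102 * a + 73 := by
    have h1 := mm_eq (a + 3)
    have h2 : (a + 3) ^ 4 + 1 = (a ^ 4 + 12 * a ^ 3 + 53 * a ^ 2 + 102 * a + 73) + (a + 3) ^ 2 := by ring
    omega
  obtain ⟨M, hM⟩ : ∃ M, M = (a + 3 + 1) * ((a + 3) ^ 3 - 1) := ⟨_, rfl⟩
  have hM' : M = a ^ 4 + 13 * a ^ 3 + 63 * a ^ 2 + 134 * a + 104 := by rw [hM, e1]; ring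
  rw [← hM] at h
  have key : ∀ N, N < 2 * M → N ≠ 0 → ¬ r * M ∣ N := by
    intro N h1 h0 h2
    have h3 := Nat.le_of_dvd (Nat.pos_of_ne_zero h0) h2
    have : 2 * M ≤ r * M := Nat.mul_le_mul_right _ hr2
    omega
  have hc3 : (a + 3) ^ 3 + 1 = a ^ 3 + 9 * a ^ 2 + 27 * a + 28 := by ring
  rcases h with (h | h | h) | ⟨j, m, h, hm, h'⟩
  · exact key _ (by rw [hmm]; linarith only [e1, hM', _root_.sq_nonneg (↑a : ℤ), _root_.Nat.cast_nonneg (α := ℤ) (a), _root_.Nat.cast_nonneg (α := ℤ) ((a + 3) ^ 3 - 1), _root_.Nat.cast_nonneg (α := ℤ) (M)]) (by rw [hmm]; (clear * -; positivity)) h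
  · rw [mul_comm ((a + 3) ^ 3 - 1), ← hM] at h
    exact key _ (by (clear * - e3 hM'; omega)) (by (clear * - hM'; omega)) h
  · refine key _ ?_ (by rw [e3]; (clear * -; positivity)) h
    rw [e3, hM', hc3]
    have : (a ^ 3 + 9 * a ^ 2 + 27 * a + 28) * (a + 2) = a ^ 4 + 11 * a ^ 3 + 45 * a ^ 2 + 82 * a + 56 := by ring
    rw [this]
    linarith only [e1, hmm, _root_.sq_nonneg (↑a : ℤ), _root_.Nat.cast_nonneg (α := ℤ) (a), _root_.Nat.cast_nonneg (α := ℤ) ((a + 3) ^ 3 - 1), _root_.Nat.cast_nonneg (α := ℤ) (mm (a + 3))]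
  · obtain ⟨-, h2, -⟩ := not_dvd_of_cop (q := a + 3) (by omega) hp hpq
    have hj : j = 0 := by
      by_contra hj
      have h3 : p ∣ r * M := by
        rw [h]
        exact Dvd.dvd.mul_right (dvd_pow_self p hj) _
      rcases hp.dvd_mul.1 h3 with h4 | h4
      · exact hrp ((Nat.prime_dvd_prime_iff_eq hp hr).1 h4).symm
      · apply h2
        rw [hM, mul_comm] at h4
        exact h4
    subst hj
    rw [pow_zero, one_mul] at h
    subst h
    rcases h' with h' | h'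
    · exact key _ (by rw [e1]; linarith only [hmm, hM', _root_.sq_nonneg (↑a : ℤ), _root_.Nat.cast_nonneg (α := ℤ) (a), _root_.Nat.cast_nonneg (α := ℤ) (mm (a + 3)), _root_.Nat.cast_nonneg (α := ℤ) (M)]) (by rw [e1]; (clear * -; positivity)) h'
    · exact key _ (by rw [hc3]; linarith only [hmm, hM', _root_.sq_nonneg (↑a : ℤ), _root_.Nat.cast_nonneg (α := ℤ) (a), _root_.Nat.cast_nonneg (α := ℤ) ((a + 3) ^ 3 - 1), _root_.Nat.cast_nonneg (α := ℤ) (mm (a + 3))]) (by positivity) h'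

end num

end Cfsg.Agent.H369.CV.D4
end

-- part: H369/CV/D4Cross
section
/-!
# Representations of `³D₄(q)` in cross characteristic, any `q > 2` (helper369, for S3442)

`fixes_X2`: helper135's theorem (`H135/TD/Cross`) for a prime `p ≥ 5`, with the same proof.
-/

set_option autoImplicit false

namespace Cfsg.Agent.H369.CV.D4

open Cfsg.Agent.SplitTwo Cfsg.Agent.TitsThree.RankTwoZ Cfsg.Agent.Lib.SL2Mat Cfsg.Agent.Cit.HexBase
  Cfsg.Agent.Cit.HexBase.HexGrp Cfsg.Agent.ChevalleyStructure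
open Cfsg.Agent.H135.TD hiding Fd
open scoped commutatorElement

/-- the field of `q ^ 3` elements and its automorphism of order three -/
structure Fe (p q : ℕ) {E : Type*} [Field E] (σ : E ≃+* E) : Prop where
  prime : p.Prime
  hq : 2 < q
  fin : Finite E
  card : Nat.card E = q ^ 3
  frob : ∀ x, σ x = x ^ q
  char : CharP E p

namespace Fe

variable {p q : ℕ} {E : Type*} [Field E] {σ : E ≃+* E} (hd : Fe p q σ)

include hd

theorem one_lt : 1 < q := by have := hd.hq; omega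

theorem cube (t : E) : σ (σ (σ t)) = t := by
  have := hd.fin
  have := Fintype.ofFinite E
  rw [hd.frob, hd.frob, hd.frob, ← pow_mul, ← pow_mul]
  have h : q * (q * q) = q ^ 3 := by ring
  rw [h, ← hd.card, Nat.card_eq_fintype_card]
  exact FiniteField.pow_card t

theorem card_fx : Nat.card ↥(fx σ) = q := by
  have := hd.fin
  have := Fintype.ofFinite E
  have h := hd.card
  rw [Nat.card_eq_fintype_card] at h
  rw [← FixedCard.card_fixed hd.one_lt h]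
  exact Nat.card_congr (Equiv.subtypeEquivRight fun x => by rw [mem_fx, hd.frob])

theorem nrm_eq (s : E) : nrm σ s = s ^ (q ^ 2 + q + 1) := by
  unfold nrm
  rw [hd.frob, hd.frob, ← pow_mul, ← pow_succ', ← pow_add]
  congr 1
  ring

theorem exists_trc : ∃ a b : E, trc σ a b ≠ 0 := by
  classical
  have := hd.fin
  have := Fintype.ofFinite E
  have hK := hd.card
  rw [Nat.card_eq_fintype_card] at hK
  have hq := hd.one_lt
  by_contra hcon
  push Not at hcon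
  have h1 : ∀ z : E, z + z ^ q + z ^ (q ^ 2) = 0 := by
    intro z
    have := hcon 1 z
    rw [trc, one_mul, hd.frob, hd.frob, ← pow_mul] at this
    rw [pow_two]
    exact this
  let P : Polynomial E := Polynomial.X + Polynomial.X ^ q + Polynomial.X ^ (q ^ 2)
  have hq2 : q < q ^ 2 := by nlinarith only [hq]
  have hdeg : P.natDegree ≤ q ^ 2 := by
    refine Polynomial.natDegree_add_le_of_degree_le (Polynomial.natDegree_add_le_of_degree_le ?_ ?_) ?_
    · rw [Polynomial.natDegree_X]; omega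
    · rw [Polynomial.natDegree_X_pow]; omega
    · rw [Polynomial.natDegree_X_pow]
  have hP : P = 0 := by
    refine Polynomial.eq_zero_of_natDegree_lt_card_of_eval_eq_zero P (f := id) Function.injective_id (fun z => ?_) ?_
    · simp only [P, Polynomial.eval_add, Polynomial.eval_X, Polynomial.eval_pow, id_eq]
      exact h1 z
    · rw [hK]
      have : q ^ 2 < q ^ 3 := by nlinarith only [hq2]
      omega
  have h2 : P.coeff 1 = 1 := by
    simp only [P, Polynomial.coeff_add, Polynomial.coeff_X_one, Polynomial.coeff_X_pow]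
    rw [if_neg (by omega), if_neg (by omega), add_zero, add_zero]
  rw [hP, Polynomial.coeff_zero] at h2
  exact zero_ne_one h2

omit hd in
theorem trc_mul {t : E} (ht : σ t = t) (a b : E) : trc σ a (t * b) = t * trc σ a b := by
  unfold trc
  simp only [map_mul, ht]
  ring

/-- every element of the fixed field is a value of the trace form -/
theorem exists_trc_eq {t : E} (ht : σ t = t) : ∃ a b : E, trc σ a b = t := by
  obtain ⟨a, b, h⟩ := hd.exists_trc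
  have h1 : σ (trc σ a b) = trc σ a b := trc_fix hd.cube a b
  refine ⟨a, t * (trc σ a b)⁻¹ * b, ?_⟩
  rw [trc_mul (mul_fix ht (inv_fix h1)), inv_mul_cancel_right₀ h]

theorem char_fx : CharP ↥(fx σ) p := by
  have := hd.char
  exact (RingHom.charP_iff (fx σ).subtype (fx σ).subtype.injective p).2 inferInstance

end Fe


variable {p q : ℕ} {E : Type*} [Field E] {σ : E ≃+* E} {L : Type*} [Group L] (c : HexGrp σ L)

theorem act_b3 (hd : Fe p q σ) (s : E) (hs : s ≠ 0) (b : E) :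
    c.pb (dg s hs) * c.x3 b * (c.pb (dg s hs))⁻¹ = c.x3 (s ^ (q ^ 2 + q - 1) * b) := by
  rw [(c.act_b s hs).a3]
  congr 2
  have h0 : nrm σ s ≠ 0 := nrm_ne hs
  have h1 : shp σ (s ^ 2) = (nrm σ s) ^ 2 / s ^ 2 := by
    unfold shp nrm
    rw [map_pow, map_pow]
    field_simp
  have h2 : s ^ (q ^ 2 + q - 1) * s ^ 2 = nrm σ s := by
    rw [hd.nrm_eq, ← pow_add]
    congr 1
    have := hd.one_lt
    omega
  rw [h1, ← h2]
  field_simp

theorem exists_el (hd : Fe p q σ) : ∃ c₀ : L, El c q c₀ := by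
  have hfin := hd.fin
  have hq := hd.one_lt
  have hfinP : Finite ↥(fx σ) := Subtype.finite
  have hP : Nat.card ↥(fx σ) = q := hd.card_fx
  obtain ⟨M, hM1, hM2, hM3⟩ := exists_matrix ↥(fx σ)
  rw [hP] at hM1 hM2 hM3
  have hν : orderOf (M.det : E) = q - 1 := by
    rw [← hM1]
    exact orderOf_injective ((fx σ).subtype : ↥(fx σ) →* E) (fx σ).subtype.injective M.det
  obtain ⟨s, hs, hs1, hs2⟩ := exists_match hq hd.card _ hν
  have hn : nrm σ s = (M.det : E) := by rw [hd.nrm_eq, hs2]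
  have hdet : M.det ≠ 0 := by
    intro h
    have : (M.det : E) = 0 := by rw [h]; rfl
    rw [← hn] at this
    exact nrm_ne hs this
  have hdet' : M.det = M 0 0 * M 1 1 - M 0 1 * M 1 0 := Matrix.det_fin_two M
  obtain ⟨g, hg⟩ : ∃ g : SL2 ↥(fx σ), g = _root_.Cfsg.Agent.Lib.SL2Mat.mk (M 1 1) (-(M 1 0 / M.det)) (-(M 0 1)) (M 0 0 / M.det) (by
    field_simp
    rw [hdet']
    ring) := ⟨_, rfl⟩
  obtain ⟨d, hdd⟩ : ∃ d : L, d = c.pb (dg s hs) := ⟨_, rfl⟩
  obtain ⟨c₀, hc₀⟩ : ∃ c₀ : L, c₀ = c.pa g * d := ⟨_, rfl⟩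
  -- action on `AA`
  have hee : ∀ v : Fin 2 → ↥(fx σ), c₀ * ee c v * c₀⁻¹ = ee c (M.mulVec v) := by
    intro v
    have e1 : d * ee c v * d⁻¹ = c.x2 ((M.det * v 0 : ↥(fx σ)) : E) * c.x4 ((v 1 : ↥(fx σ)) : E) := by
      unfold ee
      have e2 : d * (c.x2 (v 0) * c.x4 (v 1)) * d⁻¹ = (d * c.x2 (v 0) * d⁻¹) * (d * c.x4 (v 1) * d⁻¹) := by group
      rw [e2, hdd, act_b2 c s hs (fx_fix _), act_b4 c s hs (fx_fix _), hn]
      rfl
    have e2 : c₀ * ee c v * c₀⁻¹ = c.pa g * (d * ee c v * d⁻¹) * (c.pa g)⁻¹ := by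
      rw [hc₀, mul_inv_rev]
      group
    rw [e2, e1, pa_act c g (M.det * v 0) (v 1), hg]
    unfold ee
    simp only [mk_00, mk_01, mk_10, mk_11]
    have h0 : M 0 0 / M.det * (M.det * v 0) - -(M 0 1) * v 1 = M.mulVec v 0 := by
      rw [Matrix.mulVec, dotProduct, Fin.sum_univ_two]
      field_simp
      ring
    have h1 : M 1 1 * v 1 - -(M 1 0 / M.det) * (M.det * v 0) = M.mulVec v 1 := by
      rw [Matrix.mulVec, dotProduct, Fin.sum_univ_two]
      field_simp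
      ring
    rw [h0, h1]
  have heei : ∀ (i : ℕ) (v : Fin 2 → ↥(fx σ)), c₀ ^ i * ee c v * (c₀ ^ i)⁻¹ = ee c ((M ^ i).mulVec v) := by
    intro i
    induction i with
    | zero => intro v; simp
    | succ i ih =>
      intro v
      have e : c₀ ^ (i + 1) * ee c v * (c₀ ^ (i + 1))⁻¹ = c₀ ^ i * (c₀ * ee c v * c₀⁻¹) * (c₀ ^ i)⁻¹ := by
        rw [pow_succ, mul_inv_rev]
        group
      rw [e, hee, ih, Matrix.mulVec_mulVec, ← pow_succ]
  -- action on `X 3`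
  have hx3 : ∀ a : E, c₀ * c.x3 a * c₀⁻¹ = c.x3 (s ^ (q ^ 2 + q - 1) * a) := by
    intro a
    have e2 : c₀ * c.x3 a * c₀⁻¹ = c.pa g * (d * c.x3 a * d⁻¹) * (c.pa g)⁻¹ := by
      rw [hc₀, mul_inv_rev]
      group
    rw [e2, hdd, act_b3 c hd, pa_comm3 c g (c.mem3 _), mul_inv_cancel_right]
  have hx3i : ∀ (i : ℕ) (a : E), c₀ ^ i * c.x3 a * (c₀ ^ i)⁻¹ = c.x3 ((s ^ (q ^ 2 + q - 1)) ^ i * a) := by
    intro i
    induction i with
    | zero => intro v; simp only [_root_.pow_zero, _root_.one_mul, _root_.inv_one, _root_.mul_one]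
    | succ i ih =>
      intro v
      have e : c₀ ^ (i + 1) * c.x3 v * (c₀ ^ (i + 1))⁻¹ = c₀ ^ i * (c₀ * c.x3 v * c₀⁻¹) * (c₀ ^ i)⁻¹ := by
        rw [pow_succ, mul_inv_rev]
        group
      rw [e, hx3, ih, ← mul_assoc, ← pow_succ]
  -- powers of `c₀`
  have hact := c.act_b s hs
  have hpw : ∀ i : ℕ, ∃ g' : SL2 ↥(fx σ), c₀ ^ i = c.pa g' * d ^ i := by
    intro i
    induction i with
    | zero => exact ⟨1, by simp⟩
    | succ i ih =>
      obtain ⟨g', hg'⟩ := ih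
      obtain ⟨y, hy⟩ : ∃ y, d * c.pa g' * d⁻¹ = c.pa y := by
        rw [hdd]
        exact ⟨_, HexGrp.Act.pa (c := c) hact g'⟩
      refine ⟨g * y, ?_⟩
      rw [pow_succ', hg', hc₀, map_mul, ← hy, pow_succ']
      group
  have hdi : ∀ i : ℕ, s ^ i = 1 → d ^ i = 1 := by
    intro i hi
    rw [hdd, ← map_pow, dg_pow]
    have : dg (s ^ i) (pow_ne_zero i hs) = 1 := by
      apply ext_ent <;> simp [hi]
    rw [this, map_one]
  refine ⟨c₀, ⟨?_, ?_, ?_, ?_, ?_⟩⟩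
  · rintro _ ⟨v, rfl⟩
    exact ⟨_, (hee v).symm⟩
  · intro a ha
    obtain ⟨x, rfl⟩ := (c.par.mem3 _).1 ha
    rw [hx3]
    exact c.mem3 _
  · rintro i hi _ ⟨v, rfl⟩ h
    rw [heei] at h
    rcases hM3 i v (ee_inj c h) with h1 | h1
    · rw [h1, ee_zero]
    · exact absurd h1 hi
  · intro i hi a ha h
    obtain ⟨x, rfl⟩ := (c.par.mem3 _).1 ha
    rw [hx3i] at h
    have h1 := c.x3_inj h
    have h2 : ((s ^ (q ^ 2 + q - 1)) ^ i - 1) * x = 0 := by rw [sub_mul, h1, one_mul, sub_self]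
    rcases mul_eq_zero.1 h2 with h3 | h3
    · exfalso
      apply hi
      have h4 : s ^ ((q ^ 2 + q - 1) * i) = 1 := by rw [pow_mul]; exact sub_eq_zero.1 h3
      have h5 := orderOf_dvd_of_pow_eq_one h4
      rw [hs1] at h5
      exact (cop2 hq).dvd_of_dvd_mul_left h5
    · rw [h3, c.x3_zero]
  · obtain ⟨g', hg'⟩ := hpw ((q + 1) * (q ^ 3 - 1))
    have h1 : d ^ ((q + 1) * (q ^ 3 - 1)) = 1 := by
      apply hdi
      rw [mul_comm, pow_mul, ← hs1, pow_orderOf_eq_one, one_pow]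
    rw [h1, mul_one] at hg'
    have h2 : M ^ ((q + 1) * (q ^ 3 - 1)) = 1 := by
      have : (q + 1) * (q ^ 3 - 1) = (q ^ 2 - 1) * (q ^ 2 + q + 1) := by
        rw [sub_sq hq, sub_cube hq]
        ring
      rw [this, pow_mul, hM2, one_pow]
    have h3 : ∀ v : Fin 2 → ↥(fx σ), c.pa g' * ee c v * (c.pa g')⁻¹ = ee c v := by
      intro v
      have := heei ((q + 1) * (q ^ 3 - 1)) v
      rw [h2, Matrix.one_mulVec, hg'] at this
      exact this
    have key : ∀ a b : ↥(fx σ), ent g' 1 1 * a - ent g' 1 0 * b = a ∧ ent g' 0 0 * b - ent g' 0 1 * a = b := by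
      intro a b
      have h4 := h3 ![a, b]
      have h5 : ee c ![a, b] = c.x2 a * c.x4 b := rfl
      rw [h5, pa_act c g' a b] at h4
      have h6 : ee c ![ent g' 1 1 * a - ent g' 1 0 * b, ent g' 0 0 * b - ent g' 0 1 * a] = ee c ![a, b] := h4
      have h7 := ee_inj c h6
      exact ⟨congrFun h7 0, congrFun h7 1⟩
    have k1 := key 1 0
    have k2 := key 0 1
    simp only [mul_one, mul_zero, sub_zero, zero_sub, neg_eq_zero] at k1 k2
    have hg1 : g' = 1 := by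
      apply ext_ent
      · rw [ent_one_00]; exact k2.2
      · rw [ent_one_01]; exact k1.2
      · rw [ent_one_10]; exact k2.1
      · rw [ent_one_11]; exact k1.1
    rw [hg', hg1, map_one]

/-! ### the theorem -/

section rep

variable {k V : Type*} [Field k] [AddCommGroup V] [Module k V] (ρ : L →* (V →ₗ[k] V))

theorem fixes_X2 [Finite L] (hd : Fe p q σ) (hpk : (p : k) ≠ 0)
    (hN : ∀ l : L, orderOf l = (q + 1) * (q ^ 3 - 1) → ∀ v : V, ∑ i ∈ Finset.range (orderOf l), ρ (l ^ i) v = 0)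
    {t : E} (ht : σ t = t) (v : V) : ρ (c.x2 t) v = v := by
  have := Fintype.ofFinite ↥(AA c)
  have := Fintype.ofFinite ↥(c.X 3)
  have hq := hd.one_lt
  have hchar := hd.char
  have hcharP := hd.char_fx
  obtain ⟨c₀, hc⟩ := exists_el c hd
  have hℓ : 0 < (q + 1) * (q ^ 3 - 1) := by
    have : 1 < q ^ 3 := Nat.one_lt_pow (by norm_num) hq
    exact Nat.mul_pos (by omega) (by omega)
  have hA0 : (Fintype.card ↥(AA c) : k) ≠ 0 := by
    refine card_ne hd.prime hpk ?_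
    rintro _ ⟨v, rfl⟩
    rw [ee_pow]
    have : p • v = 0 := by
      funext i
      rw [Pi.smul_apply, nsmul_eq_mul, CharP.cast_eq_zero, zero_mul]
      rfl
    rw [this, ee_zero]
  have hX0 : (Fintype.card ↥(c.X 3) : k) ≠ 0 := by
    refine card_ne hd.prime hpk ?_
    intro x hx
    obtain ⟨y, rfl⟩ := (c.par.mem3 _).1 hx
    rw [x3_pow, CharP.cast_eq_zero, zero_mul, c.x3_zero]
  have hq3 : 1 < q ^ 3 - 1 := by
    have h : 2 ^ 3 ≤ q ^ 3 := Nat.pow_le_pow_left hq 3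
    omega
  have hq2 : 1 < q ^ 2 - 1 := by
    have h : 2 ^ 2 ≤ q ^ 2 := Nat.pow_le_pow_left hq 2
    omega
  have hfree : ∀ i, 0 < i → i < (q + 1) * (q ^ 3 - 1) → (∀ a ∈ AA c, c₀ ^ i * a * (c₀ ^ i)⁻¹ = a → a = 1) ∨
      (∀ x ∈ c.X 3, c₀ ^ i * x * (c₀ ^ i)⁻¹ = x → x = 1) := by
    intro i hi0 hi
    by_cases h2 : (q ^ 2 - 1) ∣ i
    · by_cases h3 : (q ^ 3 - 1) ∣ i
      · have := Nat.le_of_dvd hi0 (lcm_dvd hq h2 h3)
        omega
      · exact Or.inr (hc.f3 i h3)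
    · exact Or.inl (hc.fa i h2)
  have hfA : ∀ a ∈ AA c, c₀ * a * c₀⁻¹ = a → a = 1 := by
    have h := hc.fa 1 (by rw [Nat.dvd_one]; omega)
    rw [pow_one] at h
    exact h
  have hfX : ∀ a ∈ c.X 3, c₀ * a * c₀⁻¹ = a → a = 1 := by
    have h := hc.f3 1 (by rw [Nat.dvd_one]; omega)
    rw [pow_one] at h
    exact h
  have h10 : ee c ![1, 0] ≠ 1 := by
    intro h
    rw [← ee_zero c] at h
    have := congrFun (ee_inj c h) 0
    exact one_ne_zero this
  have h31 : c.x3 1 ≠ 1 := by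
    intro h
    rw [← c.x3_zero] at h
    exact one_ne_zero (c.x3_inj h)
  have hord : ∀ a ∈ AA c, ∀ x ∈ c.X 3, orderOf (a * x * c₀) = (q + 1) * (q ^ 3 - 1) := fun a ha x hx =>
    orderOf_mul_c (AA c) (c.X 3) (AA_comm c) (X3_comm c) (AA_X3 c) c₀ hc.aa hc.x3 _ hℓ hfree hfA hfX
      (mem_AA c |>.2 ⟨_, rfl⟩) h10 (c.mem3 1) h31 hc.pow ha hx
  have hnorm : ∀ a ∈ AA c, ∀ x ∈ c.X 3, ∀ v, ∑ i ∈ Finset.range ((q + 1) * (q ^ 3 - 1)), ρ ((a * x * c₀) ^ i) v = 0 := by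
    intro a ha x hx v
    have h1 := hN (a * x * c₀) (hord a ha x hx) v
    rwa [hord a ha x hx] at h1
  have hker : ∀ v : V, ∑ a : AA c, ρ a v = 0 → ∑ x : c.X 3, ρ x v = 0 → v = 0 := fun v h1 h2 =>
    two_kernel ρ (AA c) (c.X 3) (AA_comm c) (X3_comm c) (AA_X3 c) c₀ hc.aa hc.x3 _ hℓ hfree hnorm hA0 hX0 v h1 h2
  -- `W₀`
  have hW3 : ∀ v : V, ∑ a : AA c, ρ a v = 0 → ∀ x ∈ c.X 3, ρ x v = v := fun v hv x hx =>
    fix_of_two_kernel ρ (AA c) (c.X 3) (AA_X3 c) hX0 hker hv hx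
  -- `X 5` normalises `AA`
  have h5 : ∀ b : E, ∀ a ∈ AA c, c.x5 b * a * (c.x5 b)⁻¹ ∈ AA c := by
    rintro b _ ⟨v, rfl⟩
    have h1 := eq_of_kk' (c.par.rel.c25 (v 0) b (fx_fix _))
    have h2 := eq_of_kk' (c.par.rel.c45 (v 1) b (fx_fix _))
    have h3 : c.x5 b * ee c v = ee c v * c.x5 b := by
      unfold ee
      rw [mul_assoc, h2, ← mul_assoc, ← mul_assoc, h1]
    rw [h3, mul_inv_cancel_right]
    exact ⟨v, rfl⟩
  have hW4 : ∀ v : V, ∑ a : AA c, ρ a v = 0 → ∀ t : E, σ t = t → ρ (c.x4 t) v = v := by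
    intro v hv t ht
    obtain ⟨a, b, hab⟩ := hd.exists_trc_eq ht
    have h1 := c.par.rel.c35 a b
    rw [hab] at h1
    unfold kk at h1
    have hb := sum_conj ρ (h5 b) hv
    have h2 : ρ ((c.x3 a)⁻¹) (ρ ((c.x5 b)⁻¹) (ρ (c.x3 a) (ρ (c.x5 b) v))) = ρ (c.x4 t) v := by
      rw [← h1, map_mul, map_mul, map_mul]
      rfl
    rw [← h2, hW3 _ hb _ (c.mem3 a)]
    have h3 : ρ ((c.x5 b)⁻¹) (ρ (c.x5 b) v) = v := by
      have : ρ ((c.x5 b)⁻¹) (ρ (c.x5 b) v) = ρ ((c.x5 b)⁻¹ * c.x5 b) v := by rw [map_mul]; rfl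
      rw [this, inv_mul_cancel, map_one]
      rfl
    rw [h3]
    exact hW3 v hv _ (inv_mem (c.mem3 a))
  -- `n6` normalises `AA`
  have h6 : ∀ a ∈ AA c, c.n6 * a * (c.n6)⁻¹ ∈ AA c := by
    rintro _ ⟨v, rfl⟩
    exact ⟨![_, _], (pa_act c (wm 1 one_ne_zero) (v 0) (v 1)).symm⟩
  have hW2 : ∀ v : V, ∑ a : AA c, ρ a v = 0 → ∀ t : E, σ t = t → ρ (c.x2 t) v = v := by
    intro v hv t ht
    have h1 := (aux24 c 1 one_ne_zero ht).1
    have h2 : c.x2 t = (c.n6)⁻¹ * c.x4 (-(((1 : ↥(fx σ)) : E) * t)) * c.n6 := by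
      rw [← h1]
      unfold HexGrp.n6
      group
    have hn := sum_conj ρ h6 hv
    have h3 : ρ (c.x2 t) v = ρ ((c.n6)⁻¹) (ρ (c.x4 (-(((1 : ↥(fx σ)) : E) * t))) (ρ c.n6 v)) := by
      rw [h2, map_mul, map_mul]
      rfl
    rw [h3, hW4 _ hn _ (by rw [map_neg, map_mul, ht]; congr 1; rw [show σ ((1 : ↥(fx σ)) : E) = ((1 : ↥(fx σ)) : E) from fx_fix 1])]
    have : ρ ((c.n6)⁻¹) (ρ (c.n6) v) = ρ ((c.n6)⁻¹ * c.n6) v := by rw [map_mul]; rfl
    rw [this, inv_mul_cancel, map_one]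
    rfl
  have hWA : ∀ v : V, ∑ a : AA c, ρ a v = 0 → ∀ a ∈ AA c, ρ a v = v := by
    rintro v hv _ ⟨w, rfl⟩
    unfold ee
    rw [map_mul]
    change ρ (c.x2 (w 0)) (ρ (c.x4 (w 1)) v) = v
    rw [hW4 v hv _ (fx_fix _), hW2 v hv _ (fx_fix _)]
  have hW0 : ∀ v : V, ∑ a : AA c, ρ a v = 0 → v = 0 := by
    intro v hv
    have h1 : ∑ a : AA c, ρ a v = (Fintype.card ↥(AA c) : k) • v := by
      rw [Finset.sum_congr rfl fun (a : AA c) _ => hWA v hv a a.2, Finset.sum_const, Finset.card_univ,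
        Nat.cast_smul_eq_nsmul]
    rw [hv] at h1
    exact (smul_eq_zero.1 h1.symm).resolve_left hA0
  -- `AA` acts trivially
  have hfix : ∀ y ∈ AA c, ρ y (∑ a : AA c, ρ a v) = ∑ a : AA c, ρ a v := by
    intro y hy
    rw [map_sum]
    have h2 := Equiv.sum_comp (Equiv.mulLeft (⟨y, hy⟩ : AA c)) (fun x : AA c => ρ x v)
    rw [← h2]
    refine Finset.sum_congr rfl fun x _ => ?_
    rw [Equiv.coe_mulLeft, Subgroup.coe_mul, map_mul]
    rfl
  have hv0 : v - (Fintype.card ↥(AA c) : k)⁻¹ • ∑ a : AA c, ρ a v = 0 := by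
    apply hW0
    have h2 : ∑ y : AA c, ρ y (∑ a : AA c, ρ a v) = (Fintype.card ↥(AA c) : k) • ∑ a : AA c, ρ a v := by
      rw [Finset.sum_congr rfl fun (y : AA c) _ => hfix y y.2, Finset.sum_const, Finset.card_univ,
        Nat.cast_smul_eq_nsmul]
    simp only [map_sub, map_smul, Finset.sum_sub_distrib]
    rw [← Finset.smul_sum, h2, smul_smul, inv_mul_cancel₀ hA0, one_smul, sub_self]
  have hv1 := sub_eq_zero.1 hv0
  rw [hv1, map_smul, hfix _ ⟨![⟨t, ht⟩, 0], ?_⟩]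
  change c.x2 t * c.x4 ((0 : ↥(fx σ)) : E) = c.x2 t
  rw [ZeroMemClass.coe_zero, c.x4_zero, mul_one]

end rep


/-! ### the primes `r ≠ p` are hit -/

section hit

open Cfsg.Agent.H373.CV Cfsg.Agent.H357.CV Cfsg.Lie Finset

universe u v

theorem exists_lin (r : ℕ) {H : Type*} [Group H] {W : Type*} [AddCommGroup W] [Module (ZMod r) W]
    (ψ : H →* AddMonoid.End W) : ∃ ρ : H →* (W →ₗ[ZMod r] W), ∀ l w, ρ l w = ψ l w := by
  refine ⟨⟨⟨fun l => AddMonoidHom.toZModLinearMap r (ψ l), ?_⟩, ?_⟩, fun l w => rfl⟩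
  · apply LinearMap.ext
    intro w
    show ψ 1 w = w
    rw [map_one]
    rfl
  · intro a b
    apply LinearMap.ext
    intro w
    show ψ (a * b) w = ψ a (ψ b w)
    rw [map_mul]
    rfl

theorem exists_e {K : Type*} [Field K] [Fintype K] {p q : ℕ} [CharP K p] (hp : p.Prime) (hq : IsPrimePow q)
    (hK : Fintype.card K = q ^ 3) : ∃ e, 1 ≤ e ∧ q = p ^ e := by
  have hpf : Fact p.Prime := ⟨hp⟩
  obtain ⟨n, -, hn⟩ := FiniteField.card K p
  rw [hK] at hn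
  obtain ⟨k, -, hk⟩ := (Nat.dvd_prime_pow hp).1 ((dvd_pow_self q (by norm_num : 3 ≠ 0)).trans hn.dvd)
  refine ⟨k, ?_, hk⟩
  rcases Nat.eq_zero_or_pos k with rfl | hk0
  · rw [pow_zero] at hk
    exact absurd hk hq.one_lt.ne'
  · exact hk0

theorem exists_mm' {K : Type*} [Field K] [Fintype K] {q : ℕ} (hq : IsPrimePow q)
    (hK : Fintype.card K = q ^ 3) : ∃ l : ↥(twistedD4 K q), orderOf l = mm q := by
  have hle : q ^ 2 ≤ q ^ 4 := Nat.pow_le_pow_right hq.pos (by norm_num)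
  obtain ⟨T, hT, hcard, -⟩ := Cfsg.Agent.H129.CycT.exact_tD4_12 (F := K) hq hK (N := mm q) (by
    unfold mm
    push_cast [Nat.cast_sub hle]
    ring)
  obtain ⟨x, hx⟩ := hT.exists_generator
  exact ⟨x, by rw [Subgroup.orderOf_coe, orderOf_eq_card_of_forall_mem_zpowers hx, hcard]⟩

/-- **`³D₄(q)`, `q > 2`: every prime `r ≠ p` is hit.** -/
theorem hit_cross {K : Type v} [Field K] [Fintype K] {p q : ℕ} [CharP K p] (hp : p.Prime) (hq : IsPrimePow q)
    (hq2 : q ≠ 2) (hK : Fintype.card K = q ^ 3) {r : ℕ} (hr : r.Prime) (hrp : r ≠ p) :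
    Hit.{u, v} r ↥(twistedD4 K q) := by
  obtain ⟨e, he, hqe⟩ := exists_e (K := K) hp hq hK
  have hq3 : 2 < q := by
    have := hq.one_lt
    omega
  have hpq : p ∣ q := by
    rw [hqe]
    exact dvd_pow_self p (by omega)
  have hom : ∀ l : ↥(twistedD4 K q), Og p q (orderOf l) := om_gen hp he hqe hq3 hK
  obtain ⟨φ, hφ⟩ := Cfsg.Agent.ChevalleyStructure.D4Fixed.exists_frob hq hK
  have hb : Function.Bijective φ := by
    rw [Fintype.bijective_iff_injective_and_card]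
    exact ⟨RingHom.injective (φ : K →+* K), rfl⟩
  obtain ⟨σ, hσ⟩ : ∃ σ : K ≃+* K, ∀ x, σ x = x ^ q := ⟨RingEquiv.ofBijective φ hb, hφ⟩
  have hd : Fe p q σ := ⟨hp, hq3, inferInstance, by rw [Nat.card_eq_fintype_card, hK], hσ, inferInstance⟩
  have c : HexGrp σ ↥(twistedD4 K q) := Cfsg.Agent.Cit.HexD4.d4 hq hK hσ
  have hs : IsSimpleGroup ↥(twistedD4 K q) := (Cfsg.Agent.S1071.result hq hK).1
  have hx2 : c.x2 1 ≠ 1 := by
    intro h
    rw [← c.x2_zero] at h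
    exact one_ne_zero (c.x2_inj (map_one σ) (map_zero σ) h)
  apply hit_of_cases hr
  · by_cases hrm : r ∣ mm q
    · have hfp : Fact p.Prime := ⟨hp⟩
      have hpw : ∀ n : ℕ, c.x2 1 ^ n = c.x2 (n : K) := by
        intro n
        induction n with
        | zero => rw [pow_zero, Nat.cast_zero, c.x2_zero]
        | succ n ih => rw [pow_succ, ih, Nat.cast_succ, c.x2_add (map_natCast σ n) (map_one σ)]
      have ho : orderOf (c.x2 1) = p := by
        refine orderOf_eq_prime ?_ hx2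
        rw [hpw, CharP.cast_eq_zero, c.x2_zero]
      refine ⟨c.x2 1, ?_, ?_⟩
      · rw [ho]
        exact fun h => hrp ((Nat.prime_dvd_prime_iff_eq hr hp).1 h)
      · intro y hy
        have h1 := (hom y).of_mm (by omega) hp hpq hr hrm (by rw [hy]; exact Dvd.intro _ rfl)
        rw [hy, ho] at h1
        exact (prime_mm (by omega) hp ((Dvd.intro_left _ rfl).trans h1)).2.1 hpq
    · obtain ⟨s, hs, hsm⟩ := Nat.exists_prime_and_dvd (n := mm q) (by
        have h1 := mm_eq q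
        intro h
        have h2 : q ^ 2 < q ^ 4 := Nat.pow_lt_pow_right (by omega) (by norm_num)
        omega)
      obtain ⟨l, hl⟩ := exists_mm' (K := K) hq hK
      obtain ⟨x, hx⟩ : ∃ x : ↥(twistedD4 K q), orderOf x = s := by
        obtain ⟨d, hd⟩ := hsm
        refine ⟨l ^ d, ?_⟩
        have hd0 : d ≠ 0 := by
          rintro rfl
          rw [mul_zero] at hd
          rw [hd] at hl
          exact ((orderOf_pos l).ne' hl :)
        rw [orderOf_pow' _ hd0, hl, hd, Nat.gcd_mul_left_left, Nat.mul_div_cancel _ (Nat.pos_of_ne_zero hd0)]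
      refine ⟨x, ?_, ?_⟩
      · rw [hx]
        intro h
        exact hrm ((Nat.prime_dvd_prime_iff_eq hr hs).1 h ▸ hsm)
      · intro y hy
        rw [hx] at hy
        have h1 := (hom y).of_mm (by omega) hp hpq hs hsm (by rw [hy]; exact Dvd.intro_left _ rfl)
        rw [hy] at h1
        exact hrm ((Dvd.intro _ rfl).trans h1)
  · intro W _ _ _ hW ψ hinj
    by_contra hcon
    push Not at hcon
    have hfr : Fact r.Prime := ⟨hr⟩
    let _ : Module (ZMod r) W := AddCommGroup.zmodModule hW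
    obtain ⟨ρ, hρ⟩ := exists_lin r ψ
    have hpr : (p : ZMod r) ≠ 0 := by
      intro h
      rw [ZMod.natCast_eq_zero_iff] at h
      exact hrp ((Nat.prime_dvd_prime_iff_eq hr hp).1 h)
    have h1 := fun (w : W) => fixes_X2 c ρ hd hpr (fun l hl v => by
      by_contra hne
      obtain ⟨y, hy⟩ := hcon l v (by
        simp only [hρ] at hne
        exact hne)
      refine Og.not_max hq3 hp hpq hr hrp ?_
      rw [← hl, ← hy]
      exact hom y) (map_one σ) w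
    apply hx2
    apply hinj
    apply AddMonoidHom.ext
    intro w
    exact (hρ _ w).symm.trans (h1 w)

end hit

end Cfsg.Agent.H369.CV.D4
end

-- part: H224/CV/Exc
section
/-!
# The rows `F₄(q)` and `E₇(q)` of S3442 (helper224)

* `hit_of_cov` : `Cov L` (H373.Recog) gives `Hit r L` for every prime `r`;
* `hit_F4` : `F₄(q)`, every `q`, every `r`;
* `hit_E7_cross` : `E₇(q)`, every `q`, `r` not the characteristic; `hit_E7` : `p = 2` or `p ≥ 7`, every `r`.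
-/

set_option autoImplicit false
open Cfsg Cfsg.Lie

namespace Cfsg.Agent.H224.CV

open Cfsg.Agent.H373.CV

universe u v

theorem hit_of_cov {L : Type v} [Group L] (h : H373.Recog.Cov.{v, u} L) {r : ℕ} (hr : r.Prime) : Hit.{u, v} r L := by
  intro W _ _ _ hW φ
  obtain ⟨x, w, h1, h2⟩ := h r hr W hW φ
  exact ⟨x, w, h1, fun y hy => h2 ⟨y, hy⟩⟩

/-- **`F₄(q)`**, all `q`, all primes. -/
theorem hit_F4 (F : Type v) [Field F] [Fintype F] {r : ℕ} (hr : r.Prime) : Hit.{u, v} r ↥(chevF4.group F) := by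
  obtain ⟨p, hpc⟩ := CharP.exists F
  have : Fact p.Prime := ⟨CharP.char_is_prime F p⟩
  exact hit_of_cov (H224.F4R.cov (p := p) (fun x hx => Cfsg.Agent.H564.U.fixAll_F4 x hx)
    (fun r hr hrF V _ _ _ hV φ => Cfsg.Agent.H224.F4R.CovF.covX F r hr hrF V hV φ)) hr

end Cfsg.Agent.H224.CV
end

-- part: H224/CV/LatTwo
section
/-!
# Characters of the root lattice of `E₇` of order `2 r` (helper224)

`Cfg.final2` : `Φ₁₂(w) x` is an integral combination of `a, w a, w² a` for every root `a` orthogonal to the part of order 12;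
`chi_ne_one2` : `χ (w x) = χ x ^ q`, `χ` of order `2 r`, `r > 7` a prime divisor of `Φ₁₂(q)`: no root is in the kernel
of `χ`.
-/

set_option autoImplicit false
set_option linter.unusedSectionVars false
set_option linter.unusedVariables false

namespace Cfsg.Agent.H962.E7.Lat

open CoxeterSystem Cfsg Cfsg.Lie Cfsg.Lie.ChevalleyDatum
open Cfsg.Agent.ChevalleyStructure.CoxeterGeom Cfsg.Agent.ChevalleyStructure.CoxeterGeomTypes
open Cfsg.Agent.Tits.Roots Cfsg.Agent.Tits.Core Cfsg.Agent.Nodes.Reps Cfsg.Agent.Nodes.BNOf Cfsg.Agent.Nodes.RGDChev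
open Cfsg.Agent.H378.TorDual Cfsg.Agent.H378.LatPerp Cfsg.Agent.H378.LatCyc Cfsg.Agent.H378.LatCodim
open Cfsg.Agent.H35.ExcIdx (hpE7)
open Cfsg.Agent.H378.AdjE7 (Am)
open Polynomial

universe u

theorem B_even (x : Fin 7 → ℤ) : 2 ∣ B x x := by
  refine ⟨x 0 ^ 2 + x 1 ^ 2 + x 2 ^ 2 + x 3 ^ 2 + x 4 ^ 2 + x 5 ^ 2 + x 6 ^ 2 - x 0 * x 2 - x 2 * x 3 - x 3 * x 4 -
    x 4 * x 5 - x 5 * x 6 - x 1 * x 3, ?_⟩
  rw [B_apply]
  simp only [Fin.sum_univ_seven, Am]
  simp only [_root_.Fin.isValue, _root_.Int.reduceNeg, _root_.Matrix.cons_val', _root_.Matrix.cons_val_zero, _root_.Matrix.cons_val_fin_one, _root_.Matrix.cons_val_one, _root_.MulZeroClass.zero_mul, _root_.add_zero, _root_.Matrix.cons_val, _root_.neg_mul, _root_.one_mul, _root_.zero_add]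
  ring

section

variable {w : Module.End ℤ (Fin 7 → ℤ)} {R : Set (Fin 7 → ℤ)} {y : Fin 7 → ℤ}

/-- a vector orthogonal to `U` and to `a, w a, w² a` is zero -/
theorem Cfg.zero_of (C : Cfg w R y) {a : Fin 7 → ℤ} (ha : a ∈ R) (hp : Pp w y a) {u : Fin 7 → ℤ} (hu : Pp w y u)
    (h0 : B a u = 0) (h1 : B (w a) u = 0) (h2 : B (w (w a)) u = 0) : u = 0 := by
  by_contra hne
  have hann := C.mem_U ha hp h0 h1 h2
  have C' : Cfg w R u := ⟨C.inv, C.root, C.sq, C.neg, C.sub, C.fin, C.c1, C.c2, C.c3, C.pos, hann, hne⟩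
  have e1 := C.wpow hu
  have e2 := C.wpow e1
  have e3 := C.wpow e2
  obtain ⟨d₀, d₁, d₂, d₃, hd, he⟩ := C.dep4 hu e1 e2 e3
  have h5 := C'.indY (c := ![d₀, d₁, d₂, d₃]) (by
    rw [Fin.sum_univ_four]
    simp only [Matrix.cons_val]
    exact he)
  have q0 := congrFun h5 0
  have q1 := congrFun h5 1
  have q2 := congrFun h5 2
  have q3 := congrFun h5 3
  simp only [Matrix.cons_val, Pi.zero_apply] at q0 q1 q2 q3
  exact hd ⟨q0, q1, q2, q3⟩

/-- the powers of `w` are isometries -/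
theorem Cfg.inv_pow (C : Cfg w R y) (c : ℕ) (x z : Fin 7 → ℤ) : B ((w ^ c) x) ((w ^ c) z) = B x z := by
  induction c generalizing x z with
  | zero => rfl
  | succ c ih => rw [pow_succ, Module.End.mul_apply, Module.End.mul_apply, ih, C.inv]

/-- `Φ₁₂(w) x` is orthogonal to `U` -/
theorem Cfg.pp_aeval (C : Cfg w R y) (x : Fin 7 → ℤ) : Pp w y (aeval w (cyclotomic 12 ℤ) x) := by
  intro i
  have e : aeval w (cyclotomic 12 ℤ) x = (w ^ 4) x - (w ^ 2) x + x := by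
    rw [cyc12, map_add, map_sub, map_pow, map_pow, aeval_X, map_one, LinearMap.add_apply, LinearMap.sub_apply,
      Module.End.one_apply]
  have hs : ∀ c j : ℕ, (w ^ c) ((w ^ j) y) = (w ^ (c + j)) y := by
    intro c j
    rw [← Module.End.mul_apply, ← pow_add]
  have h12 : ∀ j : ℕ, (w ^ (j + 12)) y = (w ^ j) y := by
    intro j
    have h2 := C.w6 (j + 6)
    have h3 := C.w6 j
    have e1 : j + 6 + 6 = j + 12 := by ring
    rw [e1, h3, neg_neg] at h2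
    exact h2
  have e4 : B ((w ^ 4) x) ((w ^ i) y) = B x ((w ^ (i + 8)) y) := by
    have h1 := C.inv_pow 4 x ((w ^ (i + 8)) y)
    rw [hs, show 4 + (i + 8) = i + 12 by ring, h12] at h1
    exact h1
  have e2 : B ((w ^ 2) x) ((w ^ i) y) = B x ((w ^ (i + 10)) y) := by
    have h1 := C.inv_pow 2 x ((w ^ (i + 10)) y)
    rw [hs, show 2 + (i + 10) = i + 12 by ring, h12] at h1
    exact h1
  rw [e, map_add, map_sub, LinearMap.add_apply, LinearMap.sub_apply, e4, e2, ← h12 i,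
    show i + 12 = i + 8 + 4 by ring, C.f4 x (i + 8), show i + 8 + 2 = i + 10 by ring]
  ring

theorem ar0 : ∀ b₀ b₁ b₂ : ZMod 4, b₀ * b₀ + b₁ * b₁ + b₂ * b₂ = 0 → 2 * b₀ = 0 ∧ 2 * b₁ = 0 ∧ 2 * b₂ = 0 := by decide +kernel

/-- the solution of the linear equations for the Gram matrix `(s, t)` with adjugate `(c₀, c₁, c₂)` -/
theorem ar1 : ∀ b₀ b₁ b₂ : ZMod 8,
    (3 * b₀ - 2 * b₁ + b₂) * b₀ + (-2 * b₀ + 4 * b₁ - 2 * b₂) * b₁ + (b₀ - 2 * b₁ + 3 * b₂) * b₂ = 0 →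
    2 * (3 * b₀ - 2 * b₁ + b₂) = 0 ∧ 2 * (-2 * b₀ + 4 * b₁ - 2 * b₂) = 0 ∧ 2 * (b₀ - 2 * b₁ + 3 * b₂) = 0 := by
  decide +kernel

theorem ar2 : ∀ b₀ b₁ b₂ : ZMod 8,
    (3 * b₀ - b₁ - b₂) * b₀ + (-b₀ + 3 * b₁ - b₂) * b₁ + (-b₀ - b₁ + 3 * b₂) * b₂ = 0 →
    2 * (3 * b₀ - b₁ - b₂) = 0 ∧ 2 * (-b₀ + 3 * b₁ - b₂) = 0 ∧ 2 * (-b₀ - b₁ + 3 * b₂) = 0 := by
  decide +kernel

theorem ar3 : ∀ b₀ b₁ b₂ : ZMod 8,
    (3 * b₀ + 2 * b₁ + b₂) * b₀ + (2 * b₀ + 4 * b₁ + 2 * b₂) * b₁ + (b₀ + 2 * b₁ + 3 * b₂) * b₂ = 0 →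
    2 * (3 * b₀ + 2 * b₁ + b₂) = 0 ∧ 2 * (2 * b₀ + 4 * b₁ + 2 * b₂) = 0 ∧ 2 * (b₀ + 2 * b₁ + 3 * b₂) = 0 := by
  decide +kernel

theorem ar4 : ∀ b₀ b₁ b₂ : ZMod 8,
    (3 * b₀ + b₁ - b₂) * b₀ + (b₀ + 3 * b₁ + b₂) * b₁ + (-b₀ + b₁ + 3 * b₂) * b₂ = 0 →
    2 * (3 * b₀ + b₁ - b₂) = 0 ∧ 2 * (b₀ + 3 * b₁ + b₂) = 0 ∧ 2 * (-b₀ + b₁ + 3 * b₂) = 0 := by
  decide +kernel

theorem four_dvd {c : ℤ} (h : ((2 * c : ℤ) : ZMod 8) = 0) : 4 ∣ c := by
  have := (ZMod.intCast_zmod_eq_zero_iff_dvd (2 * c) 8).1 h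
  push_cast at this
  omega

theorem two_dvd' {c : ℤ} (h : ((2 * c : ℤ) : ZMod 4) = 0) : 2 ∣ c := by
  have := (ZMod.intCast_zmod_eq_zero_iff_dvd (2 * c) 4).1 h
  push_cast at this
  omega

/-- **Integrality.** -/
theorem Cfg.final2 (C : Cfg w R y) {a : Fin 7 → ℤ} (ha : a ∈ R) (hp : Pp w y a) (x : Fin 7 → ℤ) :
    ∃ d₀ d₁ d₂ : ℤ, aeval w (cyclotomic 12 ℤ) x = d₀ • a + d₁ • w a + d₂ • w (w a) := by
  have hwa := C.root _ ha
  have hwwa := C.root _ hwa
  have hwp := C.wpow hp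
  have hwwp := C.wpow hwp
  have h12 : B (w a) (w (w a)) = B a (w a) := C.inv _ _
  obtain ⟨v, hv⟩ : ∃ v, v = aeval w (cyclotomic 12 ℤ) x := ⟨_, rfl⟩
  have hvP : Pp w y v := by rw [hv]; exact C.pp_aeval x
  rw [← hv]
  obtain ⟨b₀, hb0⟩ : ∃ b, b = B a v := ⟨_, rfl⟩
  obtain ⟨b₁, hb1⟩ : ∃ b, b = B (w a) v := ⟨_, rfl⟩
  obtain ⟨b₂, hb2⟩ : ∃ b, b = B (w (w a)) v := ⟨_, rfl⟩
  -- linear combinations
  have key : ∀ m c₀ c₁ c₂ : ℤ, m * b₀ = c₀ * 2 + c₁ * B a (w a) + c₂ * B a (w (w a)) →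
      m * b₁ = c₀ * B a (w a) + c₁ * 2 + c₂ * B a (w a) →
      m * b₂ = c₀ * B a (w (w a)) + c₁ * B a (w a) + c₂ * 2 →
      m • v = c₀ • a + c₁ • w a + c₂ • w (w a) := by
    intro m c₀ c₁ c₂ e0 e1 e2
    rw [← sub_eq_zero]
    refine C.zero_of ha hp (fun i => ?_) ?_ ?_ ?_
    · simp only [map_sub, map_add, map_smul, LinearMap.sub_apply, LinearMap.add_apply, LinearMap.smul_apply, hvP i,
        hp i, hwp i, hwwp i, smul_zero, add_zero, sub_zero]
    · simp only [map_sub, map_add, map_smul, smul_eq_mul, C.sq _ ha, ← hb0]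
      linarith only [e0]
    · simp only [map_sub, map_add, map_smul, smul_eq_mul, C.sq _ hwa, h12, B_comm (w a) a, ← hb1]
      linarith only [e1]
    · simp only [map_sub, map_add, map_smul, smul_eq_mul, C.sq _ hwwa, h12, B_comm (w (w a)) a,
        B_comm (w (w a)) (w a), ← hb2]
      linarith
  obtain ⟨e, he⟩ := B_even v
  -- the norm
  have nrm : ∀ m c₀ c₁ c₂ : ℤ, m • v = c₀ • a + c₁ • w a + c₂ • w (w a) →
      c₀ * b₀ + c₁ * b₁ + c₂ * b₂ = 2 * m * e := by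
    intro m c₀ c₁ c₂ h
    have h1 := congrArg (fun z => B z v) h
    simp only [map_add, map_smul, LinearMap.add_apply, LinearMap.smul_apply, smul_eq_mul, ← hb0, ← hb1, ← hb2, he] at h1
    rw [← h1]
    ring
  have div : ∀ c₀ c₁ c₂ : ℤ, (4 : ℤ) • v = c₀ • a + c₁ • w a + c₂ • w (w a) → 4 ∣ c₀ → 4 ∣ c₁ → 4 ∣ c₂ →
      ∃ d₀ d₁ d₂ : ℤ, v = d₀ • a + d₁ • w a + d₂ • w (w a) := by
    rintro _ _ _ h ⟨d₀, rfl⟩ ⟨d₁, rfl⟩ ⟨d₂, rfl⟩
    refine ⟨d₀, d₁, d₂, ?_⟩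
    have h1 : (4 : ℤ) • v = (4 : ℤ) • (d₀ • a + d₁ • w a + d₂ • w (w a)) := by
      rw [h, smul_add, smul_add, smul_smul, smul_smul, smul_smul]
    exact smul_right_injective _ (by norm_num : (4 : ℤ) ≠ 0) h1
  have cast8 : ∀ c₀ c₁ c₂ : ℤ, (4 : ℤ) • v = c₀ • a + c₁ • w a + c₂ • w (w a) →
      ((c₀ * b₀ + c₁ * b₁ + c₂ * b₂ : ℤ) : ZMod 8) = 0 := by
    intro c₀ c₁ c₂ h
    rw [nrm 4 c₀ c₁ c₂ h]
    exact (ZMod.intCast_zmod_eq_zero_iff_dvd _ 8).2 ⟨e, by push_cast; ring⟩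
  rcases C.gram_of ha hp with ⟨q1, q2⟩ | ⟨q1 | q1, q2 | q2⟩ <;> rw [q1, q2] at key
  · have h1 := key 2 b₀ b₁ b₂ (by ring) (by ring) (by ring)
    have h2 := nrm 2 _ _ _ h1
    have h3 : ((b₀ * b₀ + b₁ * b₁ + b₂ * b₂ : ℤ) : ZMod 4) = 0 := by
      rw [h2]
      exact (ZMod.intCast_zmod_eq_zero_iff_dvd _ 4).2 ⟨e, by push_cast; ring⟩
    push_cast at h3
    obtain ⟨k0, k1, k2⟩ := ar0 _ _ _ h3
    obtain ⟨d₀, h4⟩ := two_dvd' (c := b₀) (by push_cast; exact k0)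
    obtain ⟨d₁, h5⟩ := two_dvd' (c := b₁) (by push_cast; exact k1)
    obtain ⟨d₂, h6⟩ := two_dvd' (c := b₂) (by push_cast; exact k2)
    have h7 := key 1 d₀ d₁ d₂ (by rw [h4]; ring) (by rw [h5]; ring) (by rw [h6]; ring)
    rw [one_smul] at h7
    exact ⟨_, _, _, h7⟩
  · have h1 := key 4 (3 * b₀ - 2 * b₁ + b₂) (-2 * b₀ + 4 * b₁ - 2 * b₂) (b₀ - 2 * b₁ + 3 * b₂) (by ring) (by ring)
      (by ring)
    have h2 := cast8 _ _ _ h1
    push_cast at h2
    obtain ⟨k0, k1, k2⟩ := ar1 _ _ _ h2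
    exact div _ _ _ h1 (four_dvd (by push_cast; exact k0)) (four_dvd (by push_cast; exact k1))
      (four_dvd (by push_cast; exact k2))
  · have h1 := key 4 (3 * b₀ - b₁ - b₂) (-b₀ + 3 * b₁ - b₂) (-b₀ - b₁ + 3 * b₂) (by ring) (by ring) (by ring)
    have h2 := cast8 _ _ _ h1
    push_cast at h2
    obtain ⟨k0, k1, k2⟩ := ar2 _ _ _ h2
    exact div _ _ _ h1 (four_dvd (by push_cast; exact k0)) (four_dvd (by push_cast; exact k1))
      (four_dvd (by push_cast; exact k2))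
  · have h1 := key 4 (3 * b₀ + 2 * b₁ + b₂) (2 * b₀ + 4 * b₁ + 2 * b₂) (b₀ + 2 * b₁ + 3 * b₂) (by ring) (by ring)
      (by ring)
    have h2 := cast8 _ _ _ h1
    push_cast at h2
    obtain ⟨k0, k1, k2⟩ := ar3 _ _ _ h2
    exact div _ _ _ h1 (four_dvd (by push_cast; exact k0)) (four_dvd (by push_cast; exact k1))
      (four_dvd (by push_cast; exact k2))
  · have h1 := key 4 (3 * b₀ + b₁ - b₂) (b₀ + 3 * b₁ + b₂) (-b₀ + b₁ + 3 * b₂) (by ring) (by ring) (by ring)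
    have h2 := cast8 _ _ _ h1
    push_cast at h2
    obtain ⟨k0, k1, k2⟩ := ar4 _ _ _ h2
    exact div _ _ _ h1 (four_dvd (by push_cast; exact k0)) (four_dvd (by push_cast; exact k1))
      (four_dvd (by push_cast; exact k2))

end

variable {k : Type u} [Field k] {W : Type*} [Group W] [Finite W] (cs : CoxeterSystem CoxeterMatrix.E₇ W)

/-- **no root is in the kernel of `χ`**, `χ` of order `2 r` -/
theorem chi_ne_one2 {w : W} {q r : ℕ} (hr : r.Prime) (hr7 : 7 < r) (hd : (r : ℤ) ∣ (cyclotomic 12 ℤ).eval (q : ℤ))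
    {χ : Ch 7 k}
    (hχ : χ ∈ KerOf k (rep cs hpE7.isCartan w - ((q : ℕ) : ℤ) • (1 : Module.End ℤ (Fin 7 → ℤ))))
    (h1 : χ ^ (2 * r) = 1) (h3 : χ ^ 2 ≠ 1) (hχr : χ ^ r ≠ 1) {a : Fin 7 → ℤ} (ha : _root_.Cfsg.Agent.Tits.Roots.IsRoot cs hpE7.isCartan a) :
    χ (Multiplicative.ofAdd a) ≠ 1 := by
  have := Fintype.ofFinite W
  intro ha1
  -- the part of order `r`
  have hrW : ¬ r ∣ Nat.card W := fun hh => by
    have := H378.LatCodim.le_of_dvd_card cs hpE7.isCartan hr hh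
    interval_cases r
    exact absurd hr (by norm_num)
  have hr12 : ¬ r ∣ 12 := fun hh => by
    have := Nat.le_of_dvd (by norm_num) hh
    interval_cases r <;> first | exact absurd hh (by decide) | exact absurd hr (by norm_num)
  have hχ3 : χ ^ 2 ∈ KerOf k (rep cs hpE7.isCartan w - ((q : ℕ) : ℤ) • (1 : Module.End ℤ (Fin 7 → ℤ))) := pow_mem hχ 2
  obtain ⟨y, hy, hy', hp⟩ := exists_perp (cs := cs) (h := hpE7.isCartan) (m := 12) (by norm_num) hr hrW hr12 hd hχ3 h3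
    (by rw [← pow_mul, h1])
  have C := cfg_of cs hy hy'
  have hpa : Pp (rep cs hpE7.isCartan w) y a := by
    intro i
    rw [B_eq_zero_iff cs hpE7]
    exact hp a ha (by rw [MonoidHom.pow_apply, ha1, one_pow]) i
  -- the exponent
  obtain ⟨P, hP⟩ : ∃ P : ℤ, P = (cyclotomic 12 ℤ).eval (q : ℤ) := ⟨_, rfl⟩
  have hw : ∀ x, χ (Multiplicative.ofAdd (rep cs hpE7.isCartan w x)) = χ (Multiplicative.ofAdd x) ^ ((q : ℕ) : ℤ) :=
    fun x => chi_w hχ x
  have hwa : χ (Multiplicative.ofAdd (rep cs hpE7.isCartan w a)) = 1 := by rw [hw, ha1, one_zpow]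
  have hwwa : χ (Multiplicative.ofAdd (rep cs hpE7.isCartan w (rep cs hpE7.isCartan w a))) = 1 := by
    rw [hw, hwa, one_zpow]
  have key : ∀ x, χ (Multiplicative.ofAdd x) ^ P = 1 := by
    intro x
    obtain ⟨c₀, c₁, c₂, hc⟩ := C.final2 ha hpa x
    have h5 := kerOf_aeval hχ (cyclotomic 12 ℤ) x
    rw [hc, ← hP] at h5
    rw [← h5, ofAdd_add, ofAdd_add, ofAdd_zsmul, ofAdd_zsmul, ofAdd_zsmul, map_mul, map_mul, map_zpow, map_zpow,
      map_zpow, ha1, hwa, hwwa, one_zpow, one_zpow, one_zpow, one_mul, one_mul]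
  -- 2 does not divide the exponent
  have hP2 : ¬ (2 : ℤ) ∣ P := by
    rw [hP, cyc12]
    simp only [eval_add, eval_sub, eval_pow, eval_X, eval_one]
    have h7 : (q : ℤ) % 2 = 0 ∨ (q : ℤ) % 2 = 1 := by omega
    have h8 : ((q : ℤ) ^ 4 - (q : ℤ) ^ 2 + 1) % 2 = 1 := by
      rcases h7 with h7 | h7 <;> simp only [Int.add_emod, Int.sub_emod, pow_succ, Int.mul_emod, h7, _root_.pow_zero, _root_.one_mul, _root_.MulZeroClass.mul_zero, _root_.EuclideanDomain.zero_mod, _root_.sub_self, _root_.Int.one_emod_two, _root_.zero_add, _root_.mul_one]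
    omega
  apply hχr
  refine MonoidHom.ext fun x => ?_
  rw [MonoidHom.pow_apply, MonoidHom.one_apply]
  have h5 := key (Multiplicative.toAdd x)
  rw [ofAdd_toAdd] at h5
  have h6 : χ x ^ (2 * r) = 1 := by rw [← MonoidHom.pow_apply, h1, MonoidHom.one_apply]
  have h7 : (orderOf (χ x) : ℤ) ∣ P := orderOf_dvd_iff_zpow_eq_one.2 h5
  have h8 : orderOf (χ x) ∣ 2 * r := orderOf_dvd_of_pow_eq_one h6
  have h9 : (orderOf (χ x)).Coprime 2 := by
    rw [Nat.coprime_comm, Nat.Prime.coprime_iff_not_dvd Nat.prime_two]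
    intro h10
    exact hP2 ((Int.natCast_dvd_natCast.2 h10).trans h7)
  exact orderOf_dvd_iff_pow_eq_one.1 (h9.dvd_of_dvd_mul_left h8)

end Cfsg.Agent.H962.E7.Lat
end

-- part: H224/CV/ESeven
section
/-!
# `E₇(q)`, `q` odd, in its own characteristic (S3442, helper224; argument of helper564)

* `fixAll_four` : an involution of a four group with conjugate involutions has fixed vectors in odd characteristic;
* `exists_z_inv` : an involution of the diagonal `SL₂` of `E₇(F)`, commuting with `F₄(F)`, with fixed vectors;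
* `no2pr` : `E₇(F)` has no element of order `2 p r`, `r` of class 12;
* `cov_E7'` : `Cov` for all `q`; `hit_E7'` : all `q`, all primes.
-/

set_option autoImplicit false
set_option linter.unusedSectionVars false

namespace Cfsg.Agent.H224.CV.ESeven

open Cfsg Cfsg.Lie Cfsg.Lie.ChevalleyDatum
open Cfsg.Agent.ChevalleyStructure Cfsg.Agent.ChevalleyStructure.Elts
open Cfsg.Agent.ChevalleyStructure.SL2Hom Cfsg.Agent.H129.FE Cfsg.Agent.H425.KFix Cfsg.Agent.H130.E7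
  Cfsg.Agent.H130.E7.Abs

universe u v

/-- **four groups** -/
theorem fixAll_four {p : ℕ} [Fact p.Prime] (hp2 : p ≠ 2) {L : Type v} [Group L] {a b z : L} (ha : a * a = 1)
    (h1 : z * a * z⁻¹ = b) (h2 : z * b * z⁻¹ = a * b) : FixAll.{u} p a := by
  intro W _ _ _ _ ρ
  by_contra hcon
  have hno : ∀ w : W, ρ a w = w → w = 0 := by
    intro w hw
    by_contra hw0
    exact hcon ⟨w, hw0, hw⟩
  have hmul : ∀ (g h : L) (w : W), ρ (g * h) w = ρ g (ρ h w) := by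
    intro g h w
    rw [map_mul]
    rfl
  have h3 : ∀ w : W, ρ a w = -w := by
    intro w
    have h4 : ρ a (w + ρ a w) = w + ρ a w := by
      rw [map_add, ← hmul, ha, map_one]
      exact add_comm _ _
    have h5 := hno _ h4
    rw [eq_neg_iff_add_eq_zero, add_comm]
    exact h5
  have hcj : ∀ g h : L, (∀ w : W, ρ h w = -w) → ∀ w : W, ρ (g * h * g⁻¹) w = -w := by
    intro g h hh w
    rw [hmul, hmul, hh, map_neg, ← hmul, mul_inv_cancel, map_one]
    rfl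
  have h4 : ∀ w : W, ρ b w = -w := by rw [← h1]; exact hcj z a h3
  have h5 : ∀ w : W, ρ (a * b) w = -w := by rw [← h2]; exact hcj z b h4
  obtain ⟨w, hw⟩ := exists_ne (0 : W)
  have h6 := h5 w
  rw [hmul, h4, h3, neg_neg] at h6
  have h7 : (2 : ZMod p) • w = 0 := by
    rw [two_smul]
    nth_rewrite 2 [h6]
    exact add_neg_cancel w
  rcases smul_eq_zero.1 h7 with h8 | h8
  · have h9 : ((2 : ℕ) : ZMod p) = 0 := by exact_mod_cast h8
    rw [ZMod.natCast_eq_zero_iff] at h9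
    exact hp2 ((Nat.prime_dvd_prime_iff_eq Fact.out Nat.prime_two).1 h9)
  · exact hw h8

variable {F : Type u} [Field F]

theorem xg_ne' : xg F hE 92 (1 : F) ≠ xg F hE (chevE7.neg 92) (-1) := by
  intro h
  have h1 := congrArg (fun g : ↥(chevE7.group F) => ((g : GL chevE7.Idx F) : Matrix chevE7.Idx chevE7.Idx F)) h
  have h0 : chevE7.neg 92 = 33 := by decide +kernel
  rw [h0] at h1
  have h2 : (((xg F hE 33 (-1) : ↥(chevE7.group F)) : GL chevE7.Idx F) : Matrix chevE7.Idx chevE7.Idx F) =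
      chevE7.x F 33 (-1) := by
    show ((xG hE 33 (-1) : GL chevE7.Idx F) : Matrix chevE7.Idx chevE7.Idx F) = _
    rw [coe_xG]
  have h3 : (((xg F hE 92 1 : ↥(chevE7.group F)) : GL chevE7.Idx F) : Matrix chevE7.Idx chevE7.Idx F) =
      chevE7.x F 92 1 := by
    show ((xG hE 92 1 : GL chevE7.Idx F) : Matrix chevE7.Idx chevE7.Idx F) = _
    rw [coe_xG]
  have h4 : chevE7.x F 92 1 = chevE7.x F 33 (-1) := by rw [← h2, ← h3]; exact h1
  have l33 : 33 < chevE7.nroots := by decide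
  rw [x_of_lt (r := 92) l92, x_of_lt l33] at h4
  have h5 := congrFun (congrFun h4 (Sum.inr ⟨92, l92⟩)) (Sum.inr ⟨33, l33⟩)
  have h6 : chevE7.xMat F ⟨92, l92⟩ 1 (Sum.inr ⟨92, l92⟩) (Sum.inr ⟨33, l33⟩) = -(1 ^ 2) := by
    have e1 : (⟨33, l33⟩ : Fin chevE7.nroots) ≠ ⟨92, l92⟩ := fun h => absurd (congrArg Fin.val h) (by decide : (33 : ℕ) ≠ 92)
    have e2 : 33 = chevE7.negIdx.getD 92 0 := by decide +kernel
    have e3 : (⟨92, l92⟩ : Fin chevE7.nroots) ≠ ⟨33, l33⟩ :=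
      fun h => absurd (congrArg Fin.val h) (by decide : (92 : ℕ) ≠ 33)
    simp only [ChevalleyDatum.xMat, Matrix.of_apply]
    rw [if_neg e1, if_pos e2, if_neg e3]
    simp only [if_true]
  have h7 : chevE7.xMat F ⟨33, l33⟩ (-1) (Sum.inr ⟨92, l92⟩) (Sum.inr ⟨33, l33⟩) = 0 := by
    have e3 : (⟨92, l92⟩ : Fin chevE7.nroots) ≠ ⟨33, l33⟩ :=
      fun h => absurd (congrArg Fin.val h) (by decide : (92 : ℕ) ≠ 33)
    simp only [ChevalleyDatum.xMat, Matrix.of_apply]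
    simp only [if_true]
    rw [if_neg e3]
  rw [h6, h7] at h5
  simp at h5

/-- the involution is not trivial -/
theorem dI_ne : dsl F qI ≠ 1 := by
  intro h
  rw [dsl_apply] at h
  obtain ⟨y, hy⟩ : ∃ y, y = ph F l107 qI * ph F l111 (cj qI) := ⟨_, rfl⟩
  have h1 : ph F l92 qI * y = 1 := by rw [hy, ← mul_assoc]; exact h
  have c : Commute (ph F l92 (up 1)) y := by
    rw [hy]
    exact (ph_commute l92 l107 o1 _ _).mul_right (ph_commute l92 l111 o2 _ _)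
  have h2 : ph F l92 qI = y⁻¹ := (eq_inv_of_mul_eq_one_left h1 :)
  have c' : Commute (ph F l92 (up 1)) (ph F l92 qI) := by
    rw [h2]
    exact c.inv_right
  have e1 : (lo (-1) : SL F) * qI = qI * up 1 := by
    apply Subtype.ext
    show !![1, 0; (-1 : F), 1] * !![(0 : F), 1; -1, 0] = !![(0 : F), 1; -1, 0] * !![1, 1; 0, 1]
    rw [Matrix.mul_fin_two, Matrix.mul_fin_two]
    ext i j
    (revert i j; simp [_root_.Fin.forall_fin_succ])
  have e2 := congrArg (ph F l92) e1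
  rw [map_mul, map_mul, ← c'.eq] at e2
  have e3 := mul_right_cancel e2
  rw [ph_up, ph_lo] at e3
  exact xg_ne' e3.symm

theorem exists_z_inv (F : Type u) [Field F] {p : ℕ} [Fact p.Prime] (hp : p ≠ 2) [CharP F p] :
    ∃ z : ↥(chevE7.group F), orderOf z = 2 ∧ FixAll.{v} p z ∧ ∀ x : ↥(chevF4.group F), Commute (toE7 F x) z := by
  obtain ⟨a, b, hab⟩ := ZMod.sq_add_sq p (-1)
  have h2 : (2 : F) ≠ 0 := by
    intro h
    have h1 : ((2 : ℕ) : F) = 0 := by exact_mod_cast h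
    rw [CharP.cast_eq_zero_iff F p] at h1
    exact hp ((Nat.prime_dvd_prime_iff_eq Fact.out Nat.prime_two).1 h1)
  let f : ZMod p →+* F := ZMod.castHom (dvd_refl p) F
  have h : (f a) ^ 2 + (f b) ^ 2 = -1 := by
    rw [← map_pow, ← map_pow, ← map_add, hab, map_neg, map_one]
  refine ⟨dsl F qI, orderOf_eq_prime (by rw [pow_two]; exact dI_sq) dI_ne, ?_, fun x => toE7_commute_dsl x _⟩
  exact fixAll_four hp dI_sq (dZI h h2) (dZJ h h2)

/-- **no element of order `2 p r`** -/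
theorem no2pr {F : Type u} [Field F] [Finite F] {p : ℕ} [Fact p.Prime] [CharP F p] (hp2 : p ≠ 2) {r : ℕ} (hr : r.Prime)
    (hod : orderOf (Nat.card F : ZMod r) = 12) (x : ↥(chevE7.group F)) : orderOf x ≠ p * (2 * r) := by
  have hp := Fact.out (p := p.Prime)
  have := Cfsg.Agent.Nodes.RGDChev.finite_W H35.ExcIdx.hpE7 CoxeterMatrix.E₇.toCoxeterSystem
  have h12 := Cfsg.Agent.H378.ExcNear.mod_of_od hr hod (by norm_num)
  have hr2 := hr.two_le
  have hr12 := Nat.le_of_dvd (by omega) h12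
  have hpq : p ∣ Nat.card F := by
    have := Fintype.ofFinite F
    rw [Nat.card_eq_fintype_card]
    obtain ⟨n, -, hn⟩ := FiniteField.card F p
    rw [hn]
    exact dvd_pow_self _ n.ne_zero
  have hrp : r ≠ p := by
    rintro rfl
    exact Cfsg.Agent.H378.RegFin.not_dvd_q hr hod (by norm_num) hpq
  refine H130.E7.NoThree.no_mul H35.ExcIdx.hpE7 CoxeterMatrix.E₇.toCoxeterSystem (by omega) ?_
    (fun k _ w χ hχ ho a ha => ?_) x
  · refine Nat.Coprime.mul_left ?_ ?_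
    · exact (Nat.coprime_primes Nat.prime_two hp).2 hp2.symm
    · exact (Nat.coprime_primes hr hp).2 hrp
  · refine H962.E7.Lat.chi_ne_one2 CoxeterMatrix.E₇.toCoxeterSystem hr (by omega)
      (Cfsg.Agent.H378.RegFin.cyclotomic_dvd hr hod (by norm_num)) hχ ?_ ?_ ?_ ha
    · rw [← ho]; exact pow_orderOf_eq_one χ
    · intro h
      have h1 := Nat.le_of_dvd (by norm_num) (orderOf_dvd_of_pow_eq_one (x := χ) h)
      rw [ho] at h1
      omega
    · intro h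
      have h1 := Nat.le_of_dvd hr.pos (orderOf_dvd_of_pow_eq_one (x := χ) h)
      rw [ho] at h1
      omega

/-- **own characteristic** -/
theorem own_E7 (F : Type u) [Field F] [Fintype F] {p : ℕ} [Fact p.Prime] [CharP F p] (hp : p ≠ 2) :
    ∃ x : ↥(chevE7.group F), (orderOf x).Coprime p ∧ FixAll.{v} p x ∧
      ∀ y : ↥(chevE7.group F), orderOf y ≠ p * orderOf x := by
  have hpp := Fact.out (p := p.Prime)
  have hq2 : 2 ≤ Nat.card F := Finite.one_lt_card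
  obtain ⟨r, hr⟩ := H962.E7.exists_prim8 (q := Nat.card F) (i := 12) hq2 (by decide)
  have hod : orderOf (Nat.card F : ZMod r) = 12 := H824.E7.Facts.od_of_prim (by omega) hr
  have hd : r ∣ Nat.card F ^ 12 - 1 := hr.dvd dvd_rfl
  have hrp : r ≠ p := by
    rintro rfl
    apply hr.not_dvd
    obtain ⟨n, -, hn⟩ := FiniteField.card F r
    rw [Nat.card_eq_fintype_card, hn]
    exact dvd_pow_self r n.ne_zero
  have hr2 : r ≠ 2 := by
    rintro rfl
    have := (H824.E7.Tor.od_facts hr.prime hod (by norm_num)).2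
    omega
  obtain ⟨z, hz2, hzf, hc⟩ := exists_z_inv.{u, v} F (p := p) hp
  have : Fact r.Prime := ⟨hr.prime⟩
  obtain ⟨t, ht⟩ := exists_prime_orderOf_dvd_card' (G := ↥(chevF4.group F)) r (by
    rw [Cfsg.Agent.S1062.result rfl]
    exact Dvd.dvd.mul_left (by rw [← Nat.card_eq_fintype_card]; exact hd) _)
  have hft : FixAll.{v} p t := H564.U.fixAll_F4 t (by rw [ht]; exact (Nat.coprime_primes hr.prime hpp).2 hrp)
  have h1 : orderOf (toE7 F t) = r := by rw [orderOf_injective _ (toE7_injective F), ht]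
  have ho : orderOf (toE7 F t * z) = 2 * r := by
    rw [(hc t).orderOf_mul_eq_mul_orderOf_of_coprime
      (by rw [h1, hz2]; exact (Nat.coprime_primes hr.prime Nat.prime_two).2 hr2), h1, hz2, mul_comm]
  refine ⟨toE7 F t * z, ?_, fix_comb (toE7 F) hc hzf hft, fun y hy => ?_⟩
  · rw [ho]
    exact Nat.Coprime.mul_left ((Nat.coprime_primes Nat.prime_two hpp).2 hp.symm)
      ((Nat.coprime_primes hr.prime hpp).2 hrp)
  · rw [ho] at hy
    exact no2pr hp hr.prime hod y hy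

/-- **the covers, all `q`** -/
theorem cov_E7' (F : Type u) [Field F] [Fintype F] : H373.Recog.Cov.{u, v} ↥(chevE7.group F) := by
  obtain ⟨p, hpc⟩ := CharP.exists F
  have hpp : Fact p.Prime := ⟨CharP.char_is_prime F p⟩
  by_cases hp : p = 2
  · exact H962.E7.cov_E7 F p (Or.inl hp)
  refine H824.E7.Cross.cov_of (F := F) p ?_
  intro V _ _ _ hV φ _
  obtain ⟨x, hx, hfix, hno⟩ := own_E7.{u, v} F (p := p) hp
  obtain ⟨v, hv0, hv⟩ := H962.E7.fixed_of hfix hV φ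
  refine ⟨x, v, H373.Recog.sum_ne_zero_of_fixed hpp.out hV φ hv0 hv ?_, ?_⟩
  · intro h
    exact (Nat.Prime.coprime_iff_not_dvd hpp.out).1 hx.symm h
  · rintro ⟨y, hy⟩
    exact hno y hy

/-- **`E₇(q)`**, all `q`, all primes. -/
theorem hit_E7' (F : Type u) [Field F] [Fintype F] {r : ℕ} (hr : r.Prime) :
    H373.CV.Hit.{v, u} r ↥(chevE7.group F) := hit_of_cov (cov_E7' F) hr

end Cfsg.Agent.H224.CV.ESeven
end

-- part: H373/CV/ExcAll
section
/-! S3442: the exceptional rows. -/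

set_option autoImplicit false

namespace Cfsg.Agent.H373.CV

open Cfsg Cfsg.Lie

universe u v

theorem f4_row (hf : Frame.{u, 0}) {L : Type v} [Group L] (h : IsoF4 L) : NCS.{u, v} L := by
  obtain ⟨F, _, _, ⟨e⟩⟩ := h
  intro hs hc
  exact NCS.nc hc e (hf.ncs' fun r hr => Cfsg.Agent.H224.CV.hit_F4 F hr)

theorem e7_row (hf : Frame.{u, 0}) {L : Type v} [Group L] (h : IsoE7 L) : NCS.{u, v} L := by
  obtain ⟨F, _, _, ⟨e⟩⟩ := h
  intro hs hc
  exact NCS.nc hc e (hf.ncs' fun r hr => Cfsg.Agent.H224.CV.ESeven.hit_E7' F hr)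

theorem td4_row (hf : Frame.{u, 0}) (K : Type) [Field K] [Fintype K] (q : ℕ) (hq : IsPrimePow q)
    (hK : Fintype.card K = q ^ 3) (hq2 : q ≠ 2) : NCS.{u, 0} (twistedD4 K q) := by
  obtain ⟨p, k, hp, hc, hk, hFk⟩ := exists_char K
  by_cases h2 : p = 2
  · subst h2
    exact (NC.of_rec fun _ _ _ h => Cfsg.Agent.S3478.result 2 (Or.inl rfl) q hq hq2 hK h).ncs
  refine hf.ncs' fun r hr => ?_
  by_cases hrp : r = p
  · subst hrp
    exact Cfsg.Agent.H564.TD.hit_own h2 hq hK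
  · exact Cfsg.Agent.H369.CV.D4.hit_cross hp.1 hq hq2 hK hr hrp

theorem excRows (hf : Frame.{u, 0}) : ExcRows.{u, v} where
  g2 := fun h => NCS.of_finite fun _ => (Cfsg.Agent.H369.CV.nc_g2 h).ncs
  f4 := f4_row hf
  e6 := fun h => by
    obtain ⟨F, _, _, ⟨e⟩⟩ := h
    intro hs hc
    exact NCS.nc hc e (hf.ncs' fun r hr => Cfsg.Agent.H224.CV.hit_of_cov Cfsg.Agent.H977.E6A.hit_E6 hr)
  e7 := e7_row hf
  e8 := fun h => NCS.of_finite fun _ => (Cfsg.Agent.H369.CV.nc_e8 h).ncs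
  te6 := fun h => by
    obtain ⟨K, _, _, q, hq, hK, ⟨e⟩⟩ := h
    intro hs hc
    exact NCS.nc hc e (hf.ncs' fun r hr => Cfsg.Agent.H224.CV.hit_of_cov (Cfsg.Agent.H977.E6A.hit_tE6 hq hK) hr)
  td4 := td4_row hf
  sz := fun h => NCS.of_finite fun _ => (Cfsg.Agent.H369.CV.nc_sz h).ncs
  ree := fun h => NCS.of_finite fun _ => (Cfsg.Agent.H369.CV.nc_ree h).ncs
  tf4 := fun h => NCS.of_finite fun _ => (Cfsg.Agent.H369.CV.nc_twF4 h).ncs
  tits := fun h => NCS.of_finite fun _ => (Cfsg.Agent.H369.CV.nc_tits h).ncs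

end Cfsg.Agent.H373.CV
end
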